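import Cfsg.Agent.H710.LB5.FiveOf
import Cfsg.Agent.H243.LB.PslRow
import Cfsg.Agent.S0000

/-!
# S4879, `p = 5`: the almost simple groups (helper710, for helper319)
-/

set_option autoImplicit false

namespace Cfsg.Agent.H710.LB5

open Cfsg Subgroup

universe u

local instance fact_five' : Fact (Nat.Prime 5) := ⟨Nat.prime_five⟩

theorem psl2Row {M : Ideal AlgInt} (hM : IsPModular 5 M) : Psl2Row.{u} M := by
  intro G _ _ hconj T _ hTC hTp F _ _ n hF h2 h
  obtain ⟨e⟩ := h
  exact H243.LB.psl2_row hM hconj T hTC hTp hF h2 (by norm_num) e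

/-- **`RowAS` for `p = 5`.** -/
theorem rowAS_five {M : Ideal AlgInt} (hM : IsPModular 5 M) : H319.LB.RowAS.{u} 5 M :=
  rowAS_five_of hM (fun _ _ _ _ => S0000.result) (fun _ _ _ _ => S0000.result) (psl2Row hM)

end Cfsg.Agent.H710.LB5
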