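import Cfsg.Agent.H319.LB.Base
import Cfsg.Agent.H319.One.Names
import Cfsg.Agent.H741.One.Asm
import Cfsg.Agent.H696.LB.Five
import Cfsg.Agent.H243.LB.ThRow
import Cfsg.Agent.H631.OneInput

/-!
# S4879, `p = 5`: the almost simple groups (helper710, for helper319)

`rowAS_five_of` : `RowAS 5 M` from the classification and the row `PSL₂(5ⁿ)`.
-/

set_option autoImplicit false

namespace Cfsg.Agent.H710.LB5

open Cfsg Subgroup Cfsg.Agent.H319.One

universe u

local instance fact_five : Fact (Nat.Prime 5) := ⟨Nat.prime_five⟩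

/-- the row `PSL₂(5ⁿ)` -/
def Psl2Row (M : Ideal AlgInt) : Prop :=
  ∀ (G : Type u) [Group G] [Finite G], H741.One.OneC 5 G → ∀ (T : Subgroup G) [T.Normal],
    (∀ g : G, (∀ t ∈ T, Commute g t) → g = 1) → (∀ x : G, (∃ k : ℕ, orderOf x = 5 ^ k) → x ∈ T) →
    ∀ (F : Type) [Field F] [Fintype F] (n : ℕ), Fintype.card F = 5 ^ n → 2 ≤ n →
      Nonempty (↥T ≃* Matrix.ProjectiveSpecialLinearGroup (Fin 2) F) → 5 ≤ blockRank 5 (principalBlock M G)

/-- The hypothesis of the classification half, `p = 5`, `|P| ≥ 125`. -/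
theorem hyp_five {G : Type u} [Group G] [Finite G] (h3 : 3 ≤ (Nat.card G).factorization 5)
    (hconj : H741.One.OneC 5 G)
    (hEA : ∀ P : Sylow 5 G, IsElementaryAbelian 5 (P : Subgroup G)) (T : Subgroup G) [T.Normal]
    (hTp : ∀ x : G, (∃ k : ℕ, orderOf x = 5 ^ k) → x ∈ T) :
    Hyp 5 ((Nat.card G).factorization 5) ↥T := by
  have hp' := Nat.prime_five
  have hG0 : Nat.card G ≠ 0 := Nat.card_pos.ne'
  have hT0 : Nat.card ↥T ≠ 0 := Nat.card_pos.ne'
  have hle : ∀ P : Sylow 5 G, (P : Subgroup G) ≤ T := fun P x hx => hTp x (H741.One.isPElt P.isPGroup' hx)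
  have hpow : ∀ (x : G) (k : ℕ), x ^ 5 ^ k = 1 → x ^ 5 = 1 := by
    intro x k hk
    have h1 : IsPGroup 5 ↥(zpowers x) := by
      obtain ⟨m, -, hm⟩ := (Nat.dvd_prime_pow hp').1 (orderOf_dvd_of_pow_eq_one hk)
      exact IsPGroup.of_card (n := m) (by rw [Nat.card_zpowers, hm])
    obtain ⟨P, hP⟩ := h1.exists_le_sylow
    exact (hEA P).2 x (hP (mem_zpowers x))
  refine ⟨le_rfl, by omega, fun _ => h3, ?_, ?_, ?_, ?_⟩
  · intro x y hx hy
    have hx' : orderOf (x : G) = 5 := by rw [Subgroup.orderOf_coe, hx]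
    have hy' : orderOf (y : G) = 5 := by rw [Subgroup.orderOf_coe, hy]
    have hne : ∀ z : G, orderOf z = 5 → z ≠ 1 := by
      rintro z hz rfl
      rw [orderOf_one] at hz
      omega
    obtain ⟨g, hg⟩ := isConj_iff.1 (hconj x y (hne _ hx') (hne _ hy') ⟨1, by rw [pow_one, hx']⟩
      ⟨1, by rw [pow_one, hy']⟩)
    refine ⟨MulAut.conjNormal g, Subtype.ext ?_⟩
    rw [MulAut.conjNormal_apply, hg]
  · intro P
    have h1 : Nat.card ↥(P : Subgroup ↥T) = 5 ^ (Nat.card ↥T).factorization 5 := P.card_eq_multiplicity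
    rw [h1]
    congr 1
    obtain ⟨Q⟩ : Nonempty (Sylow 5 G) := inferInstance
    have h2 : Nat.card ↥(Q : Subgroup G) = 5 ^ (Nat.card G).factorization 5 := Q.card_eq_multiplicity
    apply le_antisymm
    · exact (Nat.factorization_le_iff_dvd hT0 hG0).2 (Subgroup.card_subgroup_dvd_card T) 5
    · rw [← hp'.pow_dvd_iff_le_factorization hT0, ← h2]
      exact Subgroup.card_dvd_of_le (hle Q)
  · intro Q hQ a ha b hb
    obtain ⟨P, hP⟩ := (hQ.map T.subtype).exists_le_sylow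
    have h1 := (hEA P).1
    have h2 := h1.is_comm.comm ⟨(a : G), hP ⟨a, ha, rfl⟩⟩ ⟨(b : G), hP ⟨b, hb, rfl⟩⟩
    have h3 : (a : G) * (b : G) = (b : G) * (a : G) := congrArg Subtype.val h2
    exact Subtype.ext h3
  · intro x k hx
    have h1 : (x : G) ^ 5 ^ k = 1 := congrArg Subtype.val hx
    exact Subtype.ext (hpow x k h1)

/-- **`RowAS` for `p = 5`.** -/
theorem rowAS_five_of {M : Ideal AlgInt} (hM : IsPModular 5 M)
    (hK : ∀ (S : Type u) [Group S] [Finite S], IsSimpleGroup S → IsKnownSimple' S)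
    (hK0 : ∀ (X : Type) [Group X] [Finite X] [IsSimpleGroup X], IsKnownSimple' X)
    (hPSL : Psl2Row.{u} M) : H319.LB.RowAS.{u} 5 M := by
  intro G _ _ hconj hp2 T hTn hTs hTc hTC hTp
  have hna : ¬ IsMulCommutative ↥T := by
    intro h
    obtain ⟨x, hx⟩ := exists_ne (1 : ↥T)
    apply hx
    apply Subtype.ext
    refine hTc x x.2 fun t ht => ?_
    exact congrArg Subtype.val (h.is_comm.comm x ⟨t, ht⟩)
  have hG0 : Nat.card G ≠ 0 := Nat.card_pos.ne'
  have hf2 : 2 ≤ (Nat.card G).factorization 5 := (Nat.prime_five.pow_dvd_iff_le_factorization hG0).1 hp2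
  obtain ⟨P⟩ : Nonempty (Sylow 5 G) := inferInstance
  by_cases h2 : (Nat.card G).factorization 5 = 2
  · refine H696.LB.five_le hM P ?_ hconj
    rw [P.card_eq_multiplicity, h2]
    norm_num
  by_cases hEA : ∀ P : Sylow 5 G, IsElementaryAbelian 5 (P : Subgroup G)
  · have hyp := hyp_five (by omega) hconj hEA T hTp
    rcases mainN (hK ↥T hTs) hK0 hyp with ⟨F, i1, i2, hF, e⟩ | ⟨h5, -⟩ | ⟨h5, -⟩ | ⟨h5, -⟩
    · exact hPSL G hconj T hTC hTp F _ hF hf2 e
    · omega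
    · omega
    · omega
  · push Not at hEA
    obtain ⟨P, hP⟩ := hEA
    have hcl : H567.ClassSizeP.PClass 5 ↥T := H567.ClassSizeP.PClass.normal (H631.OneC.pclass hconj) T
    have hPna : ¬ IsMulCommutative (P : Subgroup G) := fun h =>
      hP ⟨h, fun x hx => H631.OneC.pow_eq_one hconj (H631.exists_orderOf P.isPGroup' hx)⟩
    have hQ : ∃ Q : Sylow 5 ↥T, ¬ IsMulCommutative (Q : Subgroup ↥T) := by
      have hPT : (P : Subgroup G) ≤ T := fun x hx => hTp x (H741.One.isPElt P.isPGroup' hx)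
      refine ⟨P.subtype hPT, fun h => hPna ⟨⟨fun a b => ?_⟩⟩⟩
      have h1 := h.is_comm.comm ⟨⟨(a : G), hPT a.2⟩, a.2⟩ ⟨⟨(b : G), hPT b.2⟩, b.2⟩
      exact Subtype.ext (congrArg (fun z => ((z : ↥T) : G)) (congrArg Subtype.val h1))
    rcases H631.input_of hK ↥T hTs hna 5 Nat.prime_five (by norm_num) hcl hQ with ⟨h5, -⟩ | ⟨-, h5⟩
    · omega
    · exact H243.LB.th_row hM T h5

end Cfsg.Agent.H710.LB5
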